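import Groth.Prelude.Def_FlatMod2

set_option autoImplicit false
universe u
open CategoryTheory CategoryTheory.Limits AlgebraicGeometry

namespace GrothLib.DCoh

variable {X Y : Scheme.{u}}

/-- Restriction of a finite free module along an open immersion is free. -/
noncomputable def restrictFreeModIso (f : X ⟶ Y) [IsOpenImmersion f] (n : ℕ) :
    (Scheme.Modules.restrictFunctor f).obj (FlatMod.freeMod Y n) ≅ FlatMod.freeMod X n :=
  PreservesCoproduct.iso (Scheme.Modules.restrictFunctor f) _ ≪≫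
    Sigma.mapIso (fun _ => Scheme.Modules.restrictUnitIso f)

/-- The sum of two finite free modules is free. -/
noncomputable def freeModBiprodIso (X : Scheme.{u}) (m n : ℕ) :
    FlatMod.freeMod X m ⊞ FlatMod.freeMod X n ≅ FlatMod.freeMod X (m + n) where
  hom := biprod.desc (Sigma.desc fun i => Sigma.ι (fun _ : Fin (m + n) => Coh.structureModule X) (Fin.castAdd n i))
    (Sigma.desc fun j => Sigma.ι (fun _ : Fin (m + n) => Coh.structureModule X) (Fin.natAdd m j))
  inv := Sigma.desc (Fin.addCases (motive := fun _ => Coh.structureModule X ⟶ FlatMod.freeMod X m ⊞ FlatMod.freeMod X n)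
    (fun i => Sigma.ι (fun _ : Fin m => Coh.structureModule X) i ≫ biprod.inl)
    (fun j => Sigma.ι (fun _ : Fin n => Coh.structureModule X) j ≫ biprod.inr))
  hom_inv_id := by
    refine biprod.hom_ext' _ _ (Sigma.hom_ext _ _ fun i => ?_) (Sigma.hom_ext _ _ fun i => ?_) <;> simp
  inv_hom_id := by
    refine Sigma.hom_ext _ _ fun k => ?_
    induction k using Fin.addCases <;> simp

/-- Being finite locally free is invariant under isomorphism. -/
lemma isFinLocFree_of_iso {M N : X.Modules} (e : M ≅ N) (h : FlatMod.IsFinLocFree M) :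
    FlatMod.IsFinLocFree N := fun x => by
  obtain ⟨U, n, hx, ⟨i⟩⟩ := h x
  exact ⟨U, n, hx, ⟨((Scheme.Modules.restrictFunctor U.ι).mapIso e).symm ≪≫ i⟩⟩

/-- A zero module is finite locally free. -/
lemma isFinLocFree_of_isZero {M : X.Modules} (h : IsZero M) : FlatMod.IsFinLocFree M := fun x => by
  refine ⟨⊤, 0, trivial, ⟨IsZero.iso ((Scheme.Modules.restrictFunctor (⊤ : X.Opens).ι).map_isZero h) ?_⟩⟩
  rw [IsZero.iff_id_eq_zero]
  exact Sigma.hom_ext _ _ fun i => Fin.elim0 i

/-- A trivialisation restricts to smaller opens. -/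
lemma exists_free_restrict_le {M : X.Modules} {U V : X.Opens} {n : ℕ} (hVU : V ≤ U)
    (i : M.restrict U.ι ≅ FlatMod.freeMod U n) :
    Nonempty (M.restrict V.ι ≅ FlatMod.freeMod V n) :=
  ⟨(Scheme.Modules.restrictFunctorCongr (X.homOfLE_ι hVU).symm).app M ≪≫
    (Scheme.Modules.restrictFunctorComp (X.homOfLE hVU) U.ι).app M ≪≫
    (Scheme.Modules.restrictFunctor (X.homOfLE hVU)).mapIso i ≪≫ restrictFreeModIso _ _⟩

/-- A direct sum of finite locally free modules is finite locally free. -/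
lemma isFinLocFree_biprod {M N : X.Modules} (hM : FlatMod.IsFinLocFree M)
    (hN : FlatMod.IsFinLocFree N) : FlatMod.IsFinLocFree (M ⊞ N) := fun x => by
  obtain ⟨U, m, hxU, ⟨i⟩⟩ := hM x
  obtain ⟨V, n, hxV, ⟨j⟩⟩ := hN x
  obtain ⟨i'⟩ := exists_free_restrict_le (inf_le_left : U ⊓ V ≤ U) i
  obtain ⟨j'⟩ := exists_free_restrict_le (inf_le_right : U ⊓ V ≤ V) j
  let F := Scheme.Modules.restrictFunctor (U ⊓ V).ι
  have := preservesBinaryBiproducts_of_preservesBinaryCoproducts F
  exact ⟨U ⊓ V, m + n, ⟨hxU, hxV⟩, ⟨F.mapBiprod M N ≪≫ biprod.mapIso i' j' ≪≫ freeModBiprodIso _ _ _⟩⟩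

end GrothLib.DCoh
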